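import Groth.Agent.Lib.CI2.RImmBC
import Groth.Prelude.Def_RegImm
import Mathlib.RingTheory.Regular.Flat
import Mathlib.RingTheory.Flat.EquationalCriterion

/-! # Flat base change of regular sequences and immersions of the four kinds -/

set_option autoImplicit false
set_option linter.style.haveILetI false
universe u

open CategoryTheory CategoryTheory.Limits AlgebraicGeometry MvPolynomial

namespace Groth.Agent.RegSeq26

variable {A B : Type u} [CommRing A] [CommRing B] [Algebra A B] [Module.Flat A B]

theorem isH1Regular_of_flat {c : ℕ} {f : Fin c → A} (hf : CAlgX.IsH1Regular f) :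
    CAlgX.IsH1Regular fun i => algebraMap A B (f i) := by
  intro b hb
  obtain ⟨k, a, y, hby, ha⟩ := Module.Flat.isTrivialRelation_of_sum_smul_eq_zero (f := f) (x := b) (by
    rw [← hb]
    exact Finset.sum_congr rfl fun i _ => (Algebra.smul_def (f i) (b i)).trans (mul_comm _ _))
  have hb' : b = ∑ j, y j • (fun i => algebraMap A B (a i j)) := funext fun i => by
    rw [hby i, Finset.sum_apply]
    exact Finset.sum_congr rfl fun j _ => by rw [Pi.smul_apply, smul_eq_mul, Algebra.smul_def, mul_comm]
  rw [hb']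
  refine Submodule.sum_mem _ fun j _ => Submodule.smul_mem _ (y j) ?_
  have h1 := hf (fun i => a i j) (by rw [← ha j]; exact Finset.sum_congr rfl fun i _ => mul_comm _ _)
  let N : Submodule B (Fin c → B) := Submodule.span B
    {v | ∃ i j : Fin c, v = Pi.single i (algebraMap A B (f j)) - Pi.single j (algebraMap A B (f i))}
  have key : Submodule.span A {v : Fin c → A | ∃ i j : Fin c, v = Pi.single i (f j) - Pi.single j (f i)} ≤
      (N.restrictScalars A).comap ((Algebra.linearMap A B).compLeft (Fin c)) := by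
    refine Submodule.span_le.2 ?_
    rintro _ ⟨p, q, rfl⟩
    refine Submodule.subset_span ⟨p, q, funext fun i => ?_⟩
    simp only [Pi.sub_apply, LinearMap.compLeft_apply, Function.comp_apply, Algebra.linearMap_apply, map_sub,
      Pi.single_apply, apply_ite (algebraMap A B), map_zero]
  exact key h1

theorem isQuasiRegular_of_flat {c : ℕ} {f : Fin c → A} (hf : CAlgX.IsQuasiRegular f) :
    CAlgX.IsQuasiRegular fun i => algebraMap A B (f i) := by
  classical
  intro n P hP hev d
  let a := algebraMap A B
  let J := Ideal.span (Set.range f)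
  have hspan : Ideal.span (Set.range fun i => a (f i)) = J.map a := by
    rw [Ideal.map_span, ← Set.range_comp]; rfl
  rw [hspan] at hev ⊢
  rw [← Ideal.map_pow] at hev
  have hmap : (J ^ (n + 1)).map a = Ideal.span (Set.range fun x : ↥(J ^ (n + 1)) => a x.1) := by
    rw [Ideal.map, Set.image_eq_range]
    rfl
  rw [hmap, Ideal.span, Finsupp.mem_span_range_iff_exists_finsupp] at hev
  obtain ⟨l, hl⟩ := hev
  let F : ↥P.support ⊕ ↥l.support → A := Sum.elim (fun e => eval f (monomial e.1 1)) (fun x => -x.1.1)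
  let X' : ↥P.support ⊕ ↥l.support → B := Sum.elim (fun e => P.coeff e.1) (fun x => l x.1)
  have hrel : ∑ i, F i • X' i = 0 := by
    rw [Fintype.sum_sum_type]
    simp only [F, X', Sum.elim_inl, Sum.elim_inr, neg_smul, Finset.sum_neg_distrib]
    rw [← sub_eq_add_neg, sub_eq_zero, Finset.sum_coe_sort P.support fun e => eval f (monomial e 1) • P.coeff e,
      Finset.sum_coe_sort l.support fun x => x.1 • l x]
    refine Eq.trans ?_ ((hl.symm).trans (Finset.sum_congr rfl fun x _ => ?_))
    · conv_rhs => rw [P.as_sum, map_sum]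
      refine Finset.sum_congr rfl fun e _ => ?_
      rw [eval_monomial, eval_monomial, one_mul, Algebra.smul_def, map_finsuppProd]
      simp only [map_pow]
      exact mul_comm _ _
    · show l x • a x.1 = x.1 • l x
      rw [smul_eq_mul, Algebra.smul_def, mul_comm]
  obtain ⟨k, M, y, hy, hM⟩ := Module.Flat.isTrivialRelation_of_sum_smul_eq_zero (R := A) (M := B) (f := F) (x := X') (by exact hrel)
  have hcoef : ∀ (j : Fin k) (e : ↥P.support), M (Sum.inl e) j ∈ J := by
    intro j e
    let Q : MvPolynomial (Fin c) A := ∑ e : ↥P.support, monomial e.1 (M (Sum.inl e) j)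
    have hQ : Q.IsHomogeneous n := IsHomogeneous.sum _ _ _ fun e _ => isHomogeneous_monomial _ (by
      rw [Finsupp.degree_eq_weight_one]; exact hP (mem_support_iff.1 e.2))
    have hQev : eval f Q ∈ J ^ (n + 1) := by
      have h0 := hM j
      rw [Fintype.sum_sum_type] at h0
      simp only [F, Sum.elim_inl, Sum.elim_inr, neg_mul, Finset.sum_neg_distrib, ← sub_eq_add_neg, sub_eq_zero] at h0
      have : eval f Q = ∑ x : ↥l.support, x.1.1 * M (Sum.inr x) j := by
        rw [← h0, map_sum]
        exact Finset.sum_congr rfl fun e _ => by rw [eval_monomial, eval_monomial, one_mul, mul_comm]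
      rw [this]
      exact sum_mem fun x _ => Ideal.mul_mem_right _ _ x.1.2
    have h2 := hf n Q hQ hQev e.1
    rwa [coeff_sum, Finset.sum_eq_single e (fun e' _ hne => by
      rw [coeff_monomial, if_neg (fun h => hne (Subtype.ext h))]) (fun h => absurd (Finset.mem_univ e) h),
      coeff_monomial, if_pos rfl] at h2
  by_cases hd : d ∈ P.support
  · have h3 := hy (Sum.inl ⟨d, hd⟩)
    simp only [X', Sum.elim_inl] at h3
    rw [h3]
    exact sum_mem fun j _ => by
      rw [Algebra.smul_def]
      exact Ideal.mul_mem_right _ _ (Ideal.mem_map_of_mem a (hcoef j ⟨d, hd⟩))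
  · rw [notMem_support_iff.1 hd]
    exact zero_mem _

omit [Module.Flat A B] in
theorem transport {P : ∀ {c : ℕ}, (Fin c → B) → Prop} {n m : ℕ} (e : n = m) (f : Fin n → B) (f' : Fin m → B)
    (h : ∀ i, f' i = f (Fin.cast e.symm i)) (hP : P f) : P f' := by
  subst e
  rwa [show f' = f from funext h]

omit [Module.Flat A B] in
theorem transfer_h1 (g : A → B) (rs : List A) (h : CAlgX.IsH1Regular fun i => g (rs.get i)) :
    CAlgX.IsH1Regular (rs.map g).get :=
  transport (P := @fun c (f : Fin c → B) => CAlgX.IsH1Regular f) (List.length_map g).symm _ _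
    (fun i => by simp only [List.get_eq_getElem, List.getElem_map, Fin.val_cast]) h

omit [Module.Flat A B] in
theorem transfer_quasi (g : A → B) (rs : List A) (h : CAlgX.IsQuasiRegular fun i => g (rs.get i)) :
    CAlgX.IsQuasiRegular (rs.map g).get :=
  transport (P := @fun c (f : Fin c → B) => CAlgX.IsQuasiRegular f) (List.length_map g).symm _ _
    (fun i => by simp only [List.get_eq_getElem, List.getElem_map, Fin.val_cast]) h

/-- Sequences of the four kinds are preserved by flat base change. -/
theorem seq_of_flat (k : RegImm.Kind) {rs : List A} (h : k.Seq A rs)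
    (hne : Ideal.ofList (rs.map (algebraMap A B)) ≠ ⊤) : k.Seq B (rs.map (algebraMap A B)) := by
  cases k with
  | regular =>
    refine ⟨h.toIsWeaklyRegular.of_flat, ?_⟩
    rw [smul_eq_mul, Ideal.mul_top]
    exact Ne.symm hne
  | koszul =>
    refine (CI2.isKoszulRegularSeq_iff_ex _).2 ?_
    exact (((CI2.isKoszulRegularSeq_iff_ex rs).1 h).of_flat B).map_bijective (σ := algebraMap A B)
      { toFun := id
        map_add' := fun _ _ => rfl
        map_smul' := fun a b => Algebra.smul_def a b } Function.bijective_id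
  | h1 => exact transfer_h1 _ rs (isH1Regular_of_flat h)
  | quasi => exact transfer_quasi _ rs (isQuasiRegular_of_flat h)

/-- Flat base change of regular immersions of the four kinds. -/
theorem isRegularImmersion_baseChange {X Y X' Y' : Scheme.{u}} (k : RegImm.Kind) (i : Y ⟶ X) (g : X' ⟶ X)
    (i' : Y' ⟶ X') (g' : Y' ⟶ Y) [Flat g] (hsq : IsPullback g' i' i g) (hi : RegImm.IsRegularImmersion k i) :
    RegImm.IsRegularImmersion k i' := by
  haveI := hi.1
  haveI : IsImmersion i' := MorphismProperty.of_isPullback hsq hi.1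
  refine ⟨inferInstance, fun z => ?_⟩
  obtain ⟨U, hzU, hcl, rs, hrs, hker⟩ := hi.2 (g' z)
  haveI := hcl
  have hzg : i' z ∈ g ⁻¹ᵁ U.1 := by
    rw [Scheme.Hom.mem_preimage, ← Scheme.Hom.comp_apply, ← hsq.w, Scheme.Hom.comp_apply]; exact hzU
  obtain ⟨_, ⟨V, hV, rfl⟩, hzV, hVU⟩ := X'.isBasis_affineOpens.exists_subset_of_mem_open hzg (g ⁻¹ᵁ U.1).2
  have hk : RingHom.ker (i'.app V).hom = Ideal.ofList (rs.map (g.appLE U.1 V hVU).hom) := by
    rw [CI2.ker_app_of_isPullback i g i' g' hsq U.2 hV hVU, hker, Ideal.map_ofList]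
  refine ⟨⟨V, hV⟩, hzV, CI2.isClosedImmersion_restrict_of_isPullback i g i' g' hsq hVU,
    rs.map (g.appLE U.1 V hVU).hom, ?_, hk⟩
  letI : Algebra Γ(X, U.1) Γ(X', V) := (g.appLE U.1 V hVU).hom.toAlgebra
  haveI : Module.Flat Γ(X, U.1) Γ(X', V) := Scheme.Hom.flat_appLE g U.2 hV hVU
  refine seq_of_flat k hrs fun htop => ?_
  have h1 : (1 : Γ(X', V)) ∈ RingHom.ker (i'.app V).hom := by
    rw [hk]; exact (htop.symm ▸ Submodule.mem_top : (1 : Γ(X', V)) ∈ Ideal.ofList (rs.map (algebraMap Γ(X, U.1) Γ(X', V))))
  rw [RingHom.mem_ker, map_one] at h1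
  haveI : Nontrivial Γ(Y', i' ⁻¹ᵁ V) := (Y'.presheaf.germ _ z hzV).hom.domain_nontrivial
  exact one_ne_zero h1

end Groth.Agent.RegSeq26
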